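import Cfsg.Agent.H6.J4.M.D0

set_option autoImplicit false
set_option maxRecDepth 100000
set_option Elab.async false

namespace Cfsg.H6.J4.M

theorem l2_16 : allR (P.lab1 1 code (nthN [0,55,56,57,58,60]) g2 tab2 1644 6) 1280 80 = true := by
  decide +kernel

theorem l2_17 : allR (P.lab1 1 code (nthN [0,55,56,57,58,60]) g2 tab2 1644 6) 1360 80 = true := by
  decide +kernel

theorem l2_18 : allR (P.lab1 1 code (nthN [0,55,56,57,58,60]) g2 tab2 1644 6) 1440 80 = true := by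
  decide +kernel

theorem l2_19 : allR (P.lab1 1 code (nthN [0,55,56,57,58,60]) g2 tab2 1644 6) 1520 80 = true := by
  decide +kernel

theorem l2_20 : allR (P.lab1 1 code (nthN [0,55,56,57,58,60]) g2 tab2 1644 6) 1600 44 = true := by
  decide +kernel

theorem v2_10 : dvChk tab2 1644 6 1033 [[2,1,5,4,5,1,5,4,5,2]] [] [1032,1033] (unp 1 (nat_lit 0x40900)) = true := by
  decide +kernel

theorem v2_9 : dvChk tab2 1644 6 186 [[1,5,4,5,1,5,4,5]] [[2,1,5,4,5,1,5,4,5,2]] [186,187] (unp 1 (nat_lit 0xba00)) = true := by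
  decide +kernel

theorem v2_8 : dvChk tab2 1644 6 680 [[1,5,3,5,1,5,3,5]] [[1,5,4,5,1,5,4,5], [2,1,5,4,5,1,5,4,5,2]] [680,903] (unp 1 (nat_lit 0x2a800)) = true := by
  decide +kernel

theorem v2_7 : dvChk tab2 1644 6 835 [[1,2,1,5,1,5,2,5,1,5], [1,2,5,2,4,5,1,2,5,2,4,5]] [[1,5,3,5,1,5,3,5], [1,5,4,5,1,5,4,5], [2,1,5,4,5,1,5,4,5,2]] [572,573,835,836] (unp 3 (nat_lit 0x23c0000023d0100034300)) = true := by
  decide +kernel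

theorem v2_6 : dvChk tab2 1644 6 523 [[5,1,2,1,3,2,3,5]] [[1,2,1,5,1,5,2,5,1,5], [1,2,5,2,4,5,1,2,5,2,4,5], [1,5,3,5,1,5,3,5], [1,5,4,5,1,5,4,5], [2,1,5,4,5,1,5,4,5,2]] [523,1171] (unp 1 (nat_lit 0x20b00)) = true := by
  decide +kernel

theorem v2_5 : dvChk tab2 1644 6 1212 [[1,2,1,2], [2,3,2,3], [1,4,2,1,2,4]] [[5,1,2,1,3,2,3,5], [1,2,1,5,1,5,2,5,1,5], [1,2,5,2,4,5,1,2,5,2,4,5], [1,5,3,5,1,5,3,5], [1,5,4,5,1,5,4,5], [2,1,5,4,5,1,5,4,5,2]] [406,566,582,759,833,965,1063,1212] (unp 7 (nat_lit 0x196000002f701000427000002360200023600000246010004bc00)) = true := by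
  decide +kernel

theorem v2_4 : dvChk tab2 1644 6 876 [[1,2,5,1,2,5], [1,2,4,3,4,5,2,5,4,3,4]] [[1,2,1,2], [2,3,2,3], [1,4,2,1,2,4], [5,1,2,1,3,2,3,5], [1,2,1,5,1,5,2,5,1,5], [1,2,5,2,4,5,1,2,5,2,4,5], [1,5,3,5,1,5,3,5], [1,5,4,5,1,5,4,5], [2,1,5,4,5,1,5,4,5,2]] [662,663,876,877] (unp 3 (nat_lit 0x2970000036c0100036c00)) = true := by
  decide +kernel

theorem v2_3 : dvChk tab2 1644 6 1568 [[1], [2], [4,2,4], [5,1,5]] [[1,2,5,1,2,5], [1,2,4,3,4,5,2,5,4,3,4], [1,2,1,2], [2,3,2,3], [1,4,2,1,2,4], [5,1,2,1,3,2,3,5], [1,2,1,5,1,5,2,5,1,5], [1,2,5,2,4,5,1,2,5,2,4,5], [1,5,3,5,1,5,3,5], [1,5,4,5,1,5,4,5], [2,1,5,4,5,1,5,4,5,2]] [89,90,117,118,215,216,252,253,1294,1295,1349,1350,1518,1519,1568,1569] (unp 15 (nat_lit 0x50f00000075010006210000005a020005450000005a010005ee000000590300054600000059010005ef000000760200050e000000760100062000)) = true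 := by
  decide +kernel

theorem v2_2 : dvChk tab2 1644 6 1599 [[4], [3,4,3], [5,4,5]] [[1], [2], [4,2,4], [5,1,5], [1,2,5,1,2,5], [1,2,4,3,4,5,2,5,4,3,4], [1,2,1,2], [2,3,2,3], [1,4,2,1,2,4], [5,1,2,1,3,2,3,5], [1,2,1,5,1,5,2,5,1,5], [1,2,5,2,4,5,1,2,5,2,4,5], [1,5,3,5,1,5,3,5], [1,5,4,5,1,5,4,5], [2,1,5,4,5,1,5,4,5,2]] [127,128,352,353,1397,1398,1598,1599] (unp 7 (nat_lit 0x5760000007f010001610000008002000080000005750100063f00)) = true := by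
  decide +kernel

theorem v2_1 : dvChk tab2 1644 6 0 [[5,3,5]] [[4], [3,4,3], [5,4,5], [1], [2], [4,2,4], [5,1,5], [1,2,5,1,2,5], [1,2,4,3,4,5,2,5,4,3,4], [1,2,1,2], [2,3,2,3], [1,4,2,1,2,4], [5,1,2,1,3,2,3,5], [1,2,1,5,1,5,2,5,1,5], [1,2,5,2,4,5,1,2,5,2,4,5], [1,5,3,5,1,5,3,5], [1,5,4,5,1,5,4,5], [2,1,5,4,5,1,5,4,5,2]] [0,1435] (unp 1 (nat_lit 0x0)) = true := by
  decide +kernel

theorem v2_0 : dvChk tab2 1644 6 1278 [[3], [5]] [[5,3,5], [4], [3,4,3], [5,4,5], [1], [2], [4,2,4], [5,1,5], [1,2,5,1,2,5], [1,2,4,3,4,5,2,5,4,3,4], [1,2,1,2], [2,3,2,3], [1,4,2,1,2,4], [5,1,2,1,3,2,3,5], [1,2,1,5,1,5,2,5,1,5], [1,2,5,2,4,5,1,2,5,2,4,5], [1,5,3,5,1,5,3,5], [1,5,4,5,1,5,4,5], [2,1,5,4,5,1,5,4,5,2]] [0,205,1278,1435] (unp 3 (nat_lit 0x4fe010000cd010004fe00)) = true := by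
  decide +kernel



end Cfsg.H6.J4.M
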