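import Cfsg.Agent.H6.J4.M.B0
import Cfsg.Agent.H6.J4.M.B1
import Cfsg.Agent.H6.J4.M.B2
import Cfsg.Agent.H6.J4.M.B3
import Cfsg.Agent.H6.J4.M.B4
import Cfsg.Agent.H6.J4.M.B5
import Cfsg.Agent.H6.J4.M.B6
import Cfsg.Agent.H6.J4.M.B7
import Cfsg.Agent.H6.J4.M.B8
import Cfsg.Agent.H6.J4.M.B9
import Cfsg.Agent.H6.J4.M.B10
import Cfsg.Agent.H6.J4.M.B11
import Cfsg.Agent.H6.J4.Pres

set_option autoImplicit false
set_option maxRecDepth 100000
set_option Elab.async false

namespace Cfsg.H6.J4.M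

def sg : List (List ℕ) := [[], [1], [2], [3], [4], [3,3,4,2,4,3,1,3,4], [3,3,4,2,4,3,1,3,4,2], [2,1], [2,3,3,4,2,4,3,1,3,4,3,4], [1,2], [1,3,1,2], [1,3,1,3,1,2,1,2], [1,2,1,2,1,3,1,2,1,3,1,2,1,3], [2,1,2,1,3,1,2,1,3,4,2,1,3,1,2,1,3,1], [2,1,2,1,2,1,2,2,1,2,1,2,1,2,2,1,2,1,2,1,2,4,3,3,1,3,1,3,1,3], [2,1,2,1,2,1,2,2,1,2,1,2,1,2,2,1,2,1,2,1,2,4,3,3,1,3,1,3,1,3,1,3,1,3,1,3,3,1,3,1,3,1,4,1,2], [2,1,2,1,2,1,2,2,1,2,1,2,1,2,2,1,2,1,2,1,2,4,3,3,1,3,1,3,1,3,1,3,1,3,1,3,3,1,3,1,3,1,4,1,2,1,2,1,2,2,1,2,1,2,1,2,1,2,1,2,1,2,2]]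

theorem ex : Ex (P.mat code) sg 17 :=
  (((((((((((((Ex.base (m := 5) (by decide +kernel)).step (Par.def_of_chk ok d5) (by decide +kernel)).step (Par.def_of_chk ok d6) (by decide +kernel)).step (Par.def_of_chk ok d7) (by decide +kernel)).step (Par.def_of_chk ok d8) (by decide +kernel)).step (Par.def_of_chk ok d9) (by decide +kernel)).step (Par.def_of_chk ok d10) (by decide +kernel)).step (Par.def_of_chk ok d11) (by decide +kernel)).step (Par.def_of_chk ok d12) (by decide +kernel)).step (Par.def_of_chk ok d13) (by decide +kernel)).step (Par.def_of_chk ok d14) (by decide +kernel)).step (Par.def_of_chk ok d15) (by decide +kernel)).step (Par.def_of_chk ok d16) (by decide +kernel))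

def R2 : List (List ℕ) := [[2,2,2], [9,9,9,9,9,9,9,9,9,9,9,9,9,9,9,9,9,9,9,9,9,9,9], [10,10,10,10,10,10,10,10,10,10,10,10], [11,11,11,11,11], [12,12,12,12], [1,2,1,2,1,3,1,2,1,2,1,3,1,2,1,2,1,3,1,2,1,3,1,3,1,2,1,3,1,3,1,2,1,3,1,3], [4,3,1,3,1,3,1,2,1,2,1,3,1,3,4,2,1,2,1,3,1,3,1,2,1,2,1,2], [4,1,4,1], [13,13,13], [16,16], [1,1], [2,3], [4,4]]

theorem ones : ∀ r ∈ R2, mpr (P.mat code) r = 1 :=
  (List.forall_mem_cons.mpr ⟨Par.one_of_chk ok (by decide) r0, (List.forall_mem_cons.mpr ⟨Par.one_of_chk ok (by decide) r1, (List.forall_mem_cons.mpr ⟨Par.one_of_chk ok (by decide) r2, (List.forall_mem_cons.mpr ⟨Par.one_of_chk ok (by decide) r3, (List.forall_mem_cons.mpr ⟨Par.one_of_chk ok (by decide) r4, (List.forall_mem_cons.mpr ⟨Par.one_of_chk ok (by decide) r5, (List.forall_mem_cons.mpr ⟨Par.one_of_chk ok (by decide) r6, (List.forall_mem_cons.mpr ⟨Par.one_of_chk ok (by decide) r7, (List.forall_mem_cons.mpr ⟨Par.one_of_chk ok (by decide) r8,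 (List.forall_mem_cons.mpr ⟨Par.one_of_chk ok (by decide) r9, (List.forall_mem_cons.mpr ⟨Par.one_of_chk ok (by decide) r10, (List.forall_mem_cons.mpr ⟨Par.one_of_chk ok (by decide) r11, (List.forall_mem_cons.mpr ⟨Par.one_of_chk ok (by decide) r12, (by simp)⟩)⟩)⟩)⟩)⟩)⟩)⟩)⟩)⟩)⟩)⟩)⟩)⟩)

abbrev Mx : Type := Matrix (Fin P.d) (Fin P.d) (ZMod P.q)

theorem rep : ∃ μ : Spor.J4 →* Mx, ∀ x, 1 ≤ x → x < 5 → μ (J4.ev x) = P.mat code x := by
  obtain ⟨h1, h2, h3⟩ := mrep_sound (m0 := 5) (inv := 17213620480) (R := J4.R) ex ones (by decide +kernel)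
  obtain ⟨ρ, hρ⟩ := J4.lift h1 h2
  exact ⟨(Units.coeHom _).comp ρ, fun x a b => by rw [MonoidHom.comp_apply, hρ, h3 x a b]⟩

/-- The representation. -/
noncomputable def μ : Spor.J4 →* Mx := rep.choose

theorem hμ : ∀ x, 1 ≤ x → x < 5 → μ (J4.ev x) = P.mat code x := rep.choose_spec

theorem m5 : Mem μ (P.mat code) 5 := Mem.base hμ

theorem m6 : Mem μ (P.mat code) 6 := m5.step (Par.def_of_chk ok d5) (by decide +kernel)

theorem m7 : Mem μ (P.mat code) 7 := m6.step (Par.def_of_chk ok d6) (by decide +kernel)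

theorem m8 : Mem μ (P.mat code) 8 := m7.step (Par.def_of_chk ok d7) (by decide +kernel)

theorem m9 : Mem μ (P.mat code) 9 := m8.step (Par.def_of_chk ok d8) (by decide +kernel)

theorem m10 : Mem μ (P.mat code) 10 := m9.step (Par.def_of_chk ok d9) (by decide +kernel)

theorem m11 : Mem μ (P.mat code) 11 := m10.step (Par.def_of_chk ok d10) (by decide +kernel)

theorem m12 : Mem μ (P.mat code) 12 := m11.step (Par.def_of_chk ok d11) (by decide +kernel)

theorem m13 : Mem μ (P.mat code) 13 := m12.step (Par.def_of_chk ok d12) (by decide +kernel)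

theorem m14 : Mem μ (P.mat code) 14 := m13.step (Par.def_of_chk ok d13) (by decide +kernel)

theorem m15 : Mem μ (P.mat code) 15 := m14.step (Par.def_of_chk ok d14) (by decide +kernel)

theorem m16 : Mem μ (P.mat code) 16 := m15.step (Par.def_of_chk ok d15) (by decide +kernel)

theorem m17 : Mem μ (P.mat code) 17 := m16.step (Par.def_of_chk ok d16) (by decide +kernel)

theorem m18 : Mem μ (P.mat code) 18 := m17.step (Par.def_of_chk ok d17) (by decide +kernel)

theorem m19 : Mem μ (P.mat code) 19 := m18.step (Par.def_of_chk ok d18) (by decide +kernel)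

theorem m20 : Mem μ (P.mat code) 20 := m19.step (Par.def_of_chk ok d19) (by decide +kernel)

theorem m21 : Mem μ (P.mat code) 21 := m20.step (Par.def_of_chk ok d20) (by decide +kernel)

theorem m22 : Mem μ (P.mat code) 22 := m21.step (Par.def_of_chk ok d21) (by decide +kernel)

theorem m23 : Mem μ (P.mat code) 23 := m22.step (Par.def_of_chk ok d22) (by decide +kernel)

theorem m24 : Mem μ (P.mat code) 24 := m23.step (Par.def_of_chk ok d23) (by decide +kernel)

theorem m25 : Mem μ (P.mat code) 25 := m24.step (Par.def_of_chk ok d24) (by decide +kernel)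

theorem m26 : Mem μ (P.mat code) 26 := m25.step (Par.def_of_chk ok d25) (by decide +kernel)

theorem m27 : Mem μ (P.mat code) 27 := m26.step (Par.def_of_chk ok d26) (by decide +kernel)

theorem m28 : Mem μ (P.mat code) 28 := m27.step (Par.def_of_chk ok d27) (by decide +kernel)

theorem m29 : Mem μ (P.mat code) 29 := m28.step (Par.def_of_chk ok d28) (by decide +kernel)

theorem m30 : Mem μ (P.mat code) 30 := m29.step (Par.def_of_chk ok d29) (by decide +kernel)

theorem m31 : Mem μ (P.mat code) 31 := m30.step (Par.def_of_chk ok d30) (by decide +kernel)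

theorem m32 : Mem μ (P.mat code) 32 := m31.step (Par.def_of_chk ok d31) (by decide +kernel)

theorem m33 : Mem μ (P.mat code) 33 := m32.inv (Par.one_of_chk ok (by decide) d32) (by decide +kernel)

theorem m34 : Mem μ (P.mat code) 34 := m33.inv (Par.one_of_chk ok (by decide) d33) (by decide +kernel)

theorem m35 : Mem μ (P.mat code) 35 := m34.step (Par.def_of_chk ok d34) (by decide +kernel)

theorem m36 : Mem μ (P.mat code) 36 := m35.step (Par.def_of_chk ok d35) (by decide +kernel)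

theorem m37 : Mem μ (P.mat code) 37 := m36.step (Par.def_of_chk ok d36) (by decide +kernel)

theorem m38 : Mem μ (P.mat code) 38 := m37.step (Par.def_of_chk ok d37) (by decide +kernel)

theorem m39 : Mem μ (P.mat code) 39 := m38.step (Par.def_of_chk ok d38) (by decide +kernel)

theorem m40 : Mem μ (P.mat code) 40 := m39.inv (Par.one_of_chk ok (by decide) d39) (by decide +kernel)

theorem m41 : Mem μ (P.mat code) 41 := m40.step (Par.def_of_chk ok d40) (by decide +kernel)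

theorem m42 : Mem μ (P.mat code) 42 := m41.inv (Par.one_of_chk ok (by decide) d41) (by decide +kernel)

theorem m43 : Mem μ (P.mat code) 43 := m42.step (Par.def_of_chk ok d42) (by decide +kernel)

theorem m44 : Mem μ (P.mat code) 44 := m43.inv (Par.one_of_chk ok (by decide) d43) (by decide +kernel)

theorem m45 : Mem μ (P.mat code) 45 := m44.step (Par.def_of_chk ok d44) (by decide +kernel)

theorem m46 : Mem μ (P.mat code) 46 := m45.step (Par.def_of_chk ok d45) (by decide +kernel)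

theorem m47 : Mem μ (P.mat code) 47 := m46.step (Par.def_of_chk ok d46) (by decide +kernel)

theorem m48 : Mem μ (P.mat code) 48 := m47.step (Par.def_of_chk ok d47) (by decide +kernel)

theorem m49 : Mem μ (P.mat code) 49 := m48.inv (Par.one_of_chk ok (by decide) d48) (by decide +kernel)

theorem m50 : Mem μ (P.mat code) 50 := m49.inv (Par.one_of_chk ok (by decide) d49) (by decide +kernel)

theorem m51 : Mem μ (P.mat code) 51 := m50.step (Par.def_of_chk ok d50) (by decide +kernel)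

theorem m52 : Mem μ (P.mat code) 52 := m51.step (Par.def_of_chk ok d51) (by decide +kernel)

theorem m53 : Mem μ (P.mat code) 53 := m52.step (Par.def_of_chk ok d52) (by decide +kernel)

theorem m54 : Mem μ (P.mat code) 54 := m53.step (Par.def_of_chk ok d53) (by decide +kernel)

theorem m55 : Mem μ (P.mat code) 55 := m54.inv (Par.one_of_chk ok (by decide) d54) (by decide +kernel)

theorem m56 : Mem μ (P.mat code) 56 := m55.step (Par.def_of_chk ok d55) (by decide +kernel)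

theorem m57 : Mem μ (P.mat code) 57 := m56.step (Par.def_of_chk ok d56) (by decide +kernel)

theorem m58 : Mem μ (P.mat code) 58 := m57.step (Par.def_of_chk ok d57) (by decide +kernel)

theorem m59 : Mem μ (P.mat code) 59 := m58.step (Par.def_of_chk ok d58) (by decide +kernel)

theorem m60 : Mem μ (P.mat code) 60 := m59.step (Par.def_of_chk ok d59) (by decide +kernel)

theorem m61 : Mem μ (P.mat code) 61 := m60.step (Par.def_of_chk ok d60) (by decide +kernel)

theorem mem : Mem (kq μ) (P.mat code) 61 := m61.kq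

theorem lab5 : Lab (rAct (kq μ) (Fin 1)) (fun x => ev2 (kq μ) (P.mat code) (nthN [0,18] x)) (fun p => P.dec 1 (g5 p)) tab5 5 2 :=
  Par.lab ok mem (by decide +kernel) (allR_range l5_0 (by norm_num : 0 + 5 = 5))

theorem dv5 : 5 ∣ Nat.card (Spor.J4 ⧸ μ.ker) :=
  Dvd.dvd.trans (Dvd.dvd.trans (by decide +kernel) (lab5.dvd v5_0 (one_dvd _))) (Subgroup.card_subgroup_dvd_card _)

theorem lab7 : Lab (rAct (kq μ) (Fin 1)) (fun x => ev2 (kq μ) (P.mat code) (nthN [0,20] x)) (fun p => P.dec 1 (g7 p)) tab7 7 2 :=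
  Par.lab ok mem (by decide +kernel) (allR_range l7_0 (by norm_num : 0 + 7 = 7))

theorem dv7 : 7 ∣ Nat.card (Spor.J4 ⧸ μ.ker) :=
  Dvd.dvd.trans (Dvd.dvd.trans (by decide +kernel) (lab7.dvd v7_0 (one_dvd _))) (Subgroup.card_subgroup_dvd_card _)

theorem lab23 : Lab (rAct (kq μ) (Fin 1)) (fun x => ev2 (kq μ) (P.mat code) (nthN [0,21] x)) (fun p => P.dec 1 (g23 p)) tab23 23 2 :=
  Par.lab ok mem (by decide +kernel) (allR_range l23_0 (by norm_num : 0 + 23 = 23))

theorem dv23 : 23 ∣ Nat.card (Spor.J4 ⧸ μ.ker) :=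
  Dvd.dvd.trans (Dvd.dvd.trans (by decide +kernel) (lab23.dvd v23_0 (one_dvd _))) (Subgroup.card_subgroup_dvd_card _)

theorem lab29 : Lab (rAct (kq μ) (Fin 1)) (fun x => ev2 (kq μ) (P.mat code) (nthN [0,22] x)) (fun p => P.dec 1 (g29 p)) tab29 29 2 :=
  Par.lab ok mem (by decide +kernel) (allR_range l29_0 (by norm_num : 0 + 29 = 29))

theorem dv29 : 29 ∣ Nat.card (Spor.J4 ⧸ μ.ker) :=
  Dvd.dvd.trans (Dvd.dvd.trans (by decide +kernel) (lab29.dvd v29_0 (one_dvd _))) (Subgroup.card_subgroup_dvd_card _)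

theorem lab31 : Lab (rAct (kq μ) (Fin 1)) (fun x => ev2 (kq μ) (P.mat code) (nthN [0,23] x)) (fun p => P.dec 1 (g31 p)) tab31 31 2 :=
  Par.lab ok mem (by decide +kernel) (allR_range l31_0 (by norm_num : 0 + 31 = 31))

theorem dv31 : 31 ∣ Nat.card (Spor.J4 ⧸ μ.ker) :=
  Dvd.dvd.trans (Dvd.dvd.trans (by decide +kernel) (lab31.dvd v31_0 (one_dvd _))) (Subgroup.card_subgroup_dvd_card _)

theorem lab37 : Lab (rAct (kq μ) (Fin 1)) (fun x => ev2 (kq μ) (P.mat code) (nthN [0,24] x)) (fun p => P.dec 1 (g37 p)) tab37 37 2 :=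
  Par.lab ok mem (by decide +kernel) (allR_range l37_0 (by norm_num : 0 + 37 = 37))

theorem dv37 : 37 ∣ Nat.card (Spor.J4 ⧸ μ.ker) :=
  Dvd.dvd.trans (Dvd.dvd.trans (by decide +kernel) (lab37.dvd v37_0 (one_dvd _))) (Subgroup.card_subgroup_dvd_card _)

theorem lab43 : Lab (rAct (kq μ) (Fin 1)) (fun x => ev2 (kq μ) (P.mat code) (nthN [0,5] x)) (fun p => P.dec 1 (g43 p)) tab43 43 2 :=
  Par.lab ok mem (by decide +kernel) (allR_range l43_0 (by norm_num : 0 + 43 = 43))

theorem dv43 : 43 ∣ Nat.card (Spor.J4 ⧸ μ.ker) :=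
  Dvd.dvd.trans (Dvd.dvd.trans (by decide +kernel) (lab43.dvd v43_0 (one_dvd _))) (Subgroup.card_subgroup_dvd_card _)

theorem lab11 : Lab (rAct (kq μ) (Fin 1)) (fun x => ev2 (kq μ) (P.mat code) (nthN [0,44,45] x)) (fun p => P.dec 1 (g11 p)) tab11 121 3 :=
  Par.lab ok mem (by decide +kernel) (allR_range l11_0 (by norm_num : 0 + 121 = 121))

theorem dv11 : 1331 ∣ Nat.card (Spor.J4 ⧸ μ.ker) :=
  Dvd.dvd.trans (Dvd.dvd.trans (by decide +kernel) (lab11.dvd v11_0 (lab11.dvd v11_1 (one_dvd _)))) (Subgroup.card_subgroup_dvd_card _)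

theorem lab3 : Lab (rAct (kq μ) (Fin 1)) (fun x => ev2 (kq μ) (P.mat code) (nthN [0,50,52] x)) (fun p => P.dec 1 (g3 p)) tab3 15 3 :=
  Par.lab ok mem (by decide +kernel) (allR_range l3_0 (by norm_num : 0 + 15 = 15))

theorem dv3 : 27 ∣ Nat.card (Spor.J4 ⧸ μ.ker) :=
  Dvd.dvd.trans (Dvd.dvd.trans (by decide +kernel) (lab3.dvd v3_0 (lab3.dvd v3_1 (lab3.dvd v3_2 (one_dvd _))))) (Subgroup.card_subgroup_dvd_card _)

theorem lab2 : Lab (rAct (kq μ) (Fin 1)) (fun x => ev2 (kq μ) (P.mat code) (nthN [0,55,56,57,58,60] x)) (fun p => P.dec 1 (g2 p)) tab2 1644 6 :=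
  Par.lab ok mem (by decide +kernel) (range_join (range_join (range_join (range_join (allR_range l2_0 (by norm_num : 0 + 80 = 80)) (allR_range l2_1 (by norm_num : 80 + 80 = 160))) (range_join (allR_range l2_2 (by norm_num : 160 + 80 = 240)) (range_join (allR_range l2_3 (by norm_num : 240 + 80 = 320)) (allR_range l2_4 (by norm_num : 320 + 80 = 400))))) (range_join (range_join (allR_range l2_5 (by norm_num : 400 + 80 = 480)) (allR_range l2_6 (by norm_num : 480 + 80 = 560))) (range_join (allR_range l2_7 (by norm_num : 560 + 80 = 640)) (range_join (allR_range l2_8 (by norm_num : 640 + 80 = 720)) (allR_range l2_9 (by norm_num : 720 + 80 = 800)))))) (range_join (range_join (range_join (allR_range l2_10 (by norm_num : 800 + 80 = 880)) (allR_range l2_11 (by norm_num : 880 + 80 = 960))) (range_join (allR_range l2_12 (by norm_num : 960 + 80 = 1040)) (range_join (allR_range l2_13 (by norm_num : 1040 + 80 = 1120)) (allR_range l2_14 (by norm_num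 : 1120 + 80 = 1200))))) (range_join (range_join (allR_range l2_15 (by norm_num : 1200 + 80 = 1280)) (range_join (allR_range l2_16 (by norm_num : 1280 + 80 = 1360)) (allR_range l2_17 (by norm_num : 1360 + 80 = 1440)))) (range_join (allR_range l2_18 (by norm_num : 1440 + 80 = 1520)) (range_join (allR_range l2_19 (by norm_num : 1520 + 80 = 1600)) (allR_range l2_20 (by norm_num : 1600 + 44 = 1644)))))))

theorem dv2 : 2097152 ∣ Nat.card (Spor.J4 ⧸ μ.ker) :=
  Dvd.dvd.trans (Dvd.dvd.trans (by decide +kernel) (lab2.dvd v2_0 (lab2.dvd v2_1 (lab2.dvd v2_2 (lab2.dvd v2_3 (lab2.dvd v2_4 (lab2.dvd v2_5 (lab2.dvd v2_6 (lab2.dvd v2_7 (lab2.dvd v2_8 (lab2.dvd v2_9 (lab2.dvd v2_10 (one_dvd _))))))))))))) (Subgroup.card_subgroup_dvd_card _)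

theorem powx (hi : Function.Injective μ) : evL J4.ev [3,3,4,2,4,3,1,3,4] ^ 43 = 1 :=
  ex.pow hμ hi (a := 5) (Par.one_of_chk ok (by decide) px) (by decide +kernel)

theorem kill (hi : Function.Injective μ) (N : Subgroup Spor.J4) [N.Normal] (h : evL J4.ev [3,3,4,2,4,3,1,3,4] ∈ N) :
    ∀ t ∈ J4.X, evL J4.ev t ∈ N := by
  have h0 := ex.kil J4.hev hμ hi h [] [2] (a := 6) (k := 35) (b := 2) (o := 3)
    (Par.one_of_chk ok (by decide) pa0) (Par.one_of_chk ok (by decide) pb0) (by decide +kernel)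
  have h1 := ex.kil J4.hev hμ hi h0 [] [1] (a := 7) (k := 23) (b := 1) (o := 2)
    (Par.one_of_chk ok (by decide) pa1) (Par.one_of_chk ok (by decide) pb1) (by decide +kernel)
  have h2 := ex.kil J4.hev hμ hi h [3] [4] (a := 8) (k := 31) (b := 4) (o := 2)
    (Par.one_of_chk ok (by decide) pa2) (Par.one_of_chk ok (by decide) pb2) (by decide +kernel)
  exact (List.forall_mem_cons.mpr ⟨h1, (List.forall_mem_cons.mpr ⟨h0, (List.forall_mem_cons.mpr ⟨h2, (by simp)⟩)⟩)⟩)

def Ws : List (List ℕ) := [[1], [2], [2,1,2,1,3,1,3,1,3,1,3,4,2,1,2,1,2,1,2,1,3,1,2,1,2,1,3,1,3,1,3,1,3,4,2,1,2,1,2,1,2,1,3,1,2,1,2,1,3,1,3,1,3,1,3,4,2,1,2,1,2,1,2,1,3,1]]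

theorem core (hi : Function.Injective μ) (N : Subgroup Spor.J4) [N.Normal] (h : N ≤ gen J4.ev Ws) : N = ⊥ :=
  Par.spin (by decide) hμ sp hi N (h.trans (Par.gen_le_rowStab ok (by decide) hμ (by decide +kernel)))

theorem dv : 86775571046077562880 ∣ Nat.card (Spor.J4 ⧸ μ.ker) :=
  Dvd.dvd.trans (by decide +kernel) (Nat.lcm_dvd dv2 (Nat.lcm_dvd dv3 (Nat.lcm_dvd dv5 (Nat.lcm_dvd dv7 (Nat.lcm_dvd dv11 (Nat.lcm_dvd dv23 (Nat.lcm_dvd dv29 (Nat.lcm_dvd dv31 (Nat.lcm_dvd dv37 dv43)))))))))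


end Cfsg.H6.J4.M
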